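import Groth.Prelude.Def_KRR
import Groth.Agent.Lib.ExtFil4.Lambda
import Groth.Agent.Lib.Wedge2.Exists
import Groth.Agent.Lib.Wedge2.Top
import Groth.Agent.Lib.DeRhamH7.Terms
import Groth.Agent.Lib.ModLimH13.LocFree
import Groth.Agent.Lib.CurveCoh17.Bases
import Groth.Agent.Lib.DPerf.Noeth
import Groth.Agent.Lib.TensorMod.Dual
import Groth.Agent.Lib.KFlat.FinLocFree
import Mathlib.Algebra.Category.ModuleCat.Free

/-! The positive structure on the Grothendieck ring of vector bundles. -/

set_option autoImplicit false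
set_option linter.style.haveILetI false
set_option linter.unusedSectionVars false
set_option backward.isDefEq.respectTransparency false
set_option backward.isDefEq.respectTransparency.types false

universe u

open CategoryTheory Limits AlgebraicGeometry

noncomputable section

namespace Groth.Agent.KModel5

open ExtFil4

variable {X : Scheme.{u}}

theorem hasExt (X : Scheme.{u}) : HasExt X := fun i E hE =>
  haveI hq : Coh.IsQCoh E := M1.isFP_isQCoh (M1.isFP_of_isFinLocFree hE)
  ⟨Wedge2.extMod i E, DeRhamH7.isFinLocFree_extPow hE (Wedge2.isExtPow_extMod i E),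
    Wedge2.isExtPow_extMod i E⟩

/-- The rank at a point. -/
def rk (x : X) (E : X.Modules) : ℕ := Module.finrank (X.presheaf.stalk x) ((KFlat.Sch.stF x).obj E)

theorem rk_of_rank {n : ℕ} {E : X.Modules} (hE : FlatMod.IsFinLocFreeOfRank n E) (x : X) : rk x E = n := by
  obtain ⟨e⟩ := CurveCoh17.nonempty_stalk_equiv hE x
  exact e.finrank_eq.trans (Module.finrank_fin_fun _)

theorem free_finite {E : X.Modules} (hE : FlatMod.IsFinLocFree E) (x : X) :
    Module.Free (X.presheaf.stalk x) ((KFlat.Sch.stF x).obj E) ∧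
      Module.Finite (X.presheaf.stalk x) ((KFlat.Sch.stF x).obj E) :=
  ⟨((M1.isFinLocFree_iff E).1 hE).2 x,
    M1.finite_stalk (M1.isFP_isQCoh (M1.isFP_of_isFinLocFree hE)) (M1.isFP_isFT (M1.isFP_of_isFinLocFree hE)) x⟩

theorem rk_ses (x : X) {S : ShortComplex X.Modules} (hS : S.ShortExact) (h₁ : FlatMod.IsFinLocFree S.X₁)
    (h₃ : FlatMod.IsFinLocFree S.X₃) : rk x S.X₂ = rk x S.X₁ + rk x S.X₃ := by
  obtain ⟨_, _⟩ := free_finite h₁ x
  obtain ⟨_, _⟩ := free_finite h₃ x
  haveI : Module.Free (X.presheaf.stalk x) (S.map (KFlat.Sch.stF x)).X₁ := by assumption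
  haveI : Module.Finite (X.presheaf.stalk x) (S.map (KFlat.Sch.stF x)).X₁ := by assumption
  haveI : Module.Free (X.presheaf.stalk x) (S.map (KFlat.Sch.stF x)).X₃ := by assumption
  haveI : Module.Finite (X.presheaf.stalk x) (S.map (KFlat.Sch.stF x)).X₃ := by assumption
  exact ModuleCat.free_shortExact_finrank_add (DPerf.shortExact_stF hS x) rfl rfl

theorem exists_rank [PreconnectedSpace X] (x₀ : X) {E : X.Modules} (hE : FlatMod.IsFinLocFree E) :
    FlatMod.IsFinLocFreeOfRank (rk x₀ E) E := by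
  obtain ⟨U₀, n, hx₀, ⟨e₀⟩⟩ := hE x₀
  let A : Set X := {x | x ∈ ModLimH13.rankLocus n E}
  have hA : IsClopen A := by
    refine ⟨⟨?_⟩, (ModLimH13.rankLocus n E).2⟩
    refine isOpen_iff_forall_mem_open.2 fun x hx => ?_
    obtain ⟨U, m, hxU, hU⟩ := hE x
    refine ⟨U, fun y hy hyA => hx ?_, U.2, hxU⟩
    obtain ⟨V, hyV, ⟨e⟩⟩ := ModLimH13.mem_rankLocus.1 hyA
    obtain ⟨e'⟩ := hU
    have := ModLimH13.rank_unique_at hyV hy e e'
    subst this
    exact ModLimH13.mem_rankLocus.2 ⟨U, hxU, ⟨e'⟩⟩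
  have hall : ∀ x : X, x ∈ ModLimH13.rankLocus n E := fun x => by
    have h := hA.eq_univ ⟨x₀, ModLimH13.mem_rankLocus.2 ⟨U₀, hx₀, ⟨e₀⟩⟩⟩
    exact (Set.ext_iff.1 h x).2 trivial
  have hn : FlatMod.IsFinLocFreeOfRank n E := fun x => by
    obtain ⟨U, hxU, hU⟩ := ModLimH13.mem_rankLocus.1 (hall x)
    exact ⟨U, hxU, hU⟩
  rwa [rk_of_rank hn x₀]

theorem rankOne_structureModule : FlatMod.IsFinLocFreeOfRank 1 (Coh.structureModule X) :=
  fun x => by
    obtain ⟨U, hxU, ⟨e⟩⟩ := M2.isFinLocFreeOfRank_freeMod X 1 x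
    exact ⟨U, hxU, ⟨((Scheme.Modules.restrictFunctor U.ι).mapIso (M2.freeModOneIso X)).symm ≪≫ e⟩⟩

theorem exists_model (X : Scheme.{u}) [ConnectedSpace X] :
    ∃ (K : Type (u + 1)) (_ : CommRing K) (_ : LambdaRing.LambdaOps K) (P : LambdaRing.PosStructure K)
      (φ : SGA6.Kvb X →+ K), KRR.IsModel X K P φ := by
  obtain ⟨x₀⟩ := (inferInstance : Nonempty X)
  obtain ⟨lam, hlam⟩ := exists_lam (hasExt X)
  obtain ⟨-, -, -, -, hmap, h0, h1, hadd⟩ := hlam
  letI := kvbRing X
  let inst : LambdaRing.LambdaOps (SGA6.Kvb X) := ⟨lam, h0, h1, hadd⟩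
  let augA : SGA6.Kvb X →+ ℤ := K0Cat.liftSub (P := VB X) (fun E => (rk x₀ E.1 : ℤ)) fun S h₁ h₂ h₃ hS => by
    simp [rk_ses x₀ hS h₁ h₃]
  have haug : ∀ {E : X.Modules}, FlatMod.IsFinLocFree E → augA (cl E) = (rk x₀ E : ℤ) :=
    fun hE => K0Cat.liftSub_clSub _ _ hE
  have hr : ∀ {n : ℕ} {E : X.Modules}, FlatMod.IsFinLocFreeOfRank n E → augA (cl E) = (n : ℤ) := fun {n E} hE => by
    rw [haug (M2.isFinLocFree_of_ofRank hE), rk_of_rank hE x₀]
  have htr : ∀ {E F : X.Modules}, FlatMod.IsFinLocFree E → FlatMod.IsFinLocFree F →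
      cl E * cl F = cl (CohB1.tensorMod E F) := fun hE hF => mul_cl hE hF
  have hone : (1 : SGA6.Kvb X) = cl (Coh.structureModule X) := rfl
  have hmul : ∀ x y, augA (x * y) = augA x * augA y := by
    intro x y
    induction x using K0Cat.clSub_induction with
    | h0 => simp
    | hneg a ha => simp [ha]
    | hadd a b ha hb => simp [add_mul, ha, hb]
    | hcl E hE =>
      induction y using K0Cat.clSub_induction with
      | h0 => simp
      | hneg a ha => simp [ha]
      | hadd a b ha hb => simp [mul_add, ha, hb]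
      | hcl F hF =>
        rw [htr hE hF, haug hE, haug hF,
          hr (M2.isFinLocFreeOfRank_tensor (exists_rank x₀ hE) (exists_rank x₀ hF))]
        push_cast
        ring
  have haug1 : augA 1 = 1 := by rw [hone, hr rankOne_structureModule]; rfl
  let aug : SGA6.Kvb X →+* ℤ :=
    { augA with toFun := augA, map_one' := haug1, map_mul' := hmul }
  let pos : Set (SGA6.Kvb X) := {x | ∃ (n : ℕ) (E : X.Modules), 1 ≤ n ∧ FlatMod.IsFinLocFreeOfRank n E ∧ cl E = x}
  have hpos : ∀ {E : X.Modules}, FlatMod.IsFinLocFree E → 0 < augA (cl E) → cl E ∈ pos := fun {E} hE h => by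
    rw [haug hE] at h
    exact ⟨rk x₀ E, E, by omega, exists_rank x₀ hE, rfl⟩
  have hsum : ∀ {E F : X.Modules}, FlatMod.IsFinLocFree E → FlatMod.IsFinLocFree F →
      cl (E ⊞ F) = cl E + cl F := fun {E F} hE hF =>
    K0Cat.clSub_ses (P := VB X) _ (ShortComplex.Splitting.ofHasBinaryBiproduct E F).shortExact hE
      (KFlat.Sch.isFinLocFree_biprod hE hF) hF
  have add_mem : ∀ e f, e ∈ pos → f ∈ pos → e + f ∈ pos := by
    rintro _ _ ⟨n, E, hn, hE, rfl⟩ ⟨m, F, hm, hF, rfl⟩
    rw [← hsum (M2.isFinLocFree_of_ofRank hE) (M2.isFinLocFree_of_ofRank hF)]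
    refine hpos (KFlat.Sch.isFinLocFree_biprod (M2.isFinLocFree_of_ofRank hE) (M2.isFinLocFree_of_ofRank hF)) ?_
    rw [hsum (M2.isFinLocFree_of_ofRank hE) (M2.isFinLocFree_of_ofRank hF), map_add, hr hE, hr hF]
    omega
  have one_mem : (1 : SGA6.Kvb X) ∈ pos := ⟨1, _, le_rfl, rankOne_structureModule, rfl⟩
  let P : @LambdaRing.PosStructure (SGA6.Kvb X) _ inst :=
    { aug := aug
      aug_surjective := fun z => ⟨(z : SGA6.Kvb X), by simp⟩
      pos := pos
      add_mem := add_mem
      mul_mem := by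
        rintro _ _ ⟨n, E, hn, hE, rfl⟩ ⟨m, F, hm, hF, rfl⟩
        rw [htr (M2.isFinLocFree_of_ofRank hE) (M2.isFinLocFree_of_ofRank hF)]
        exact ⟨n * m, _, Nat.one_le_iff_ne_zero.2 (Nat.mul_ne_zero (by omega) (by omega)),
          M2.isFinLocFreeOfRank_tensor hE hF, rfl⟩
      natCast_mem := fun n hn => by
        obtain ⟨k, rfl⟩ : ∃ k, n = k + 1 := ⟨n - 1, by omega⟩
        induction k with
        | zero => simpa using one_mem
        | succ k ih =>
          rw [Nat.cast_succ]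
          exact add_mem _ _ (ih (by omega)) one_mem
      exists_sub := fun x => by
        suffices ∃ E F : X.Modules, FlatMod.IsFinLocFree E ∧ FlatMod.IsFinLocFree F ∧ x = cl E - cl F by
          obtain ⟨E, F, hE, hF, rfl⟩ := this
          have hO := isVB_one (X := X)
          have hp : ∀ {G : X.Modules}, FlatMod.IsFinLocFree G → cl G + 1 ∈ pos := fun {G} hG => by
            rw [hone, ← hsum hG hO]
            refine hpos (KFlat.Sch.isFinLocFree_biprod hG hO) ?_
            rw [hsum hG hO, map_add, haug hG, hr rankOne_structureModule]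
            omega
          exact ⟨cl E + 1, cl F + 1, hp hE, hp hF, (add_sub_add_right_eq_sub _ _ _).symm⟩
        induction x using K0Cat.clSub_induction with
        | h0 => exact ⟨_, _, isVB_one, isVB_one, (sub_self _).symm⟩
        | hcl E hE => exact ⟨E ⊞ Coh.structureModule X, _, KFlat.Sch.isFinLocFree_biprod hE isVB_one, isVB_one,
            by rw [hsum hE isVB_one, add_sub_cancel_right]⟩
        | hneg a ha =>
          obtain ⟨E, F, hE, hF, rfl⟩ := ha
          exact ⟨F, E, hF, hE, neg_sub _ _⟩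
        | hadd a b ha hb =>
          obtain ⟨E, F, hE, hF, rfl⟩ := ha
          obtain ⟨E', F', hE', hF', rfl⟩ := hb
          exact ⟨E ⊞ E', F ⊞ F', KFlat.Sch.isFinLocFree_biprod hE hE', KFlat.Sch.isFinLocFree_biprod hF hF',
            by rw [hsum hE hE', hsum hF hF', sub_add_sub_comm]⟩
      aug_pos := by
        rintro _ ⟨n, E, hn, hE, rfl⟩
        show 0 < augA (cl E)
        rw [hr hE]
        omega
      lam_eq_zero := by
        rintro _ ⟨n, E, hn, hE, rfl⟩ i hi
        have hEv := M2.isFinLocFree_of_ofRank hE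
        change augA (cl E) < (i : ℤ) at hi
        rw [hr hE] at hi
        obtain ⟨L, hL, hLE⟩ := hasExt X i E hEv
        show lam i (cl E) = 0
        rw [hmap i E L hEv hLE]
        refine K0Cat.clSub_of_isZero (P := VB X) (DeRhamH7.isZero_extPow hLE fun x => ?_) hL
        obtain ⟨D, e, hxD, he⟩ := P1Split.exists_isBas_nhd hE x
        exact ⟨n, D, e, hxD, by omega, he⟩
      isUnit_lam := by
        rintro _ ⟨n, E, hn, hE, rfl⟩
        have hEv := M2.isFinLocFree_of_ofRank hE
        show IsUnit (lam (augA (cl E)).toNat (cl E))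
        rw [hr hE, Int.toNat_natCast]
        obtain ⟨L, hL, hLE⟩ := hasExt X n E hEv
        obtain ⟨D, hD, ⟨i⟩⟩ := M2.exists_inverse (Wedge2.isInvertible_top hE hLE)
        have hDv := M2.isFinLocFree_of_isInvertible hD
        rw [hmap n E L hEv hLE]
        refine IsUnit.of_mul_eq_one (cl D) ?_
        rw [htr hL hDv]
        exact cl_iso i (M2.isFinLocFree_tensor hL hDv) }
  exact ⟨SGA6.Kvb X, kvbRing X, inst, P, AddMonoidHom.id _,
    { bijective := Function.bijective_id
      map_one := rfl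
      map_mul := fun E F hE hF => (htr hE hF :)
      map_lam := fun i E L hE hL hLE => (hmap i E L hE hLE :)
      aug_cl := fun n E hE => hr hE
      mem_pos_iff := fun x => Iff.rfl }⟩

end Groth.Agent.KModel5
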